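import Groth.Agent.Lib.GaCoh3.EtZarCompare
import Groth.Agent.Lib.EtStalk.Henselian
import Groth.Agent.Lib.LfpSpread12.Basic

/-!
# Étale and Zariski cohomology when the local rings are strictly henselian
-/

universe u

set_option autoImplicit false
set_option linter.style.haveILetI false
set_option backward.isDefEq.respectTransparency.types false

open CategoryTheory CategoryTheory.Limits AlgebraicGeometry Opposite TopologicalSpace

namespace Groth.Agent.EtZarStrict3

variable {X V : Scheme.{u}} (hS : ∀ s : X, EtCoh.IsStrictlyHenselianLocalRing (X.presheaf.stalk s))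

include hS in
/-- Through every point of an étale scheme passes a local section. -/
theorem exists_section (g : V ⟶ X) [AlgebraicGeometry.Etale g] (v : V) :
    ∃ (W : X.Opens) (s : (W : Scheme.{u}) ⟶ V), g v ∈ W ∧ s ≫ g = W.ι := by
  let R := X.presheaf.stalk (g v)
  obtain ⟨hh, hsc⟩ := hS (g v)
  haveI : IsSepClosed (X.residueField (g v)) := hsc
  haveI : IsIso (g.residueFieldMap v) := by
    letI : Algebra (X.residueField (g v)) (V.residueField v) := (g.residueFieldMap v).hom.toAlgebra
    rw [ConcreteCategory.isIso_iff_bijective]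
    exact IsSepClosed.algebraMap_bijective (X.residueField (g v)) (V.residueField v)
  let r : V.residueField v ⟶ X.residueField (g v) := inv (g.residueFieldMap v)
  have hr : g.residueFieldMap v ≫ r = 𝟙 _ := IsIso.hom_inv_id _
  let A : (Spec (CommRingCat.of R)).Etale :=
    Scheme.Etale.mk (pullback.snd g (X.fromSpecStalk (g v)))
  let a : Spec (CommRingCat.of (IsLocalRing.ResidueField R)) ⟶ pullback g (X.fromSpecStalk (g v)) :=
    pullback.lift (Spec.map r ≫ V.fromSpecResidueField v)
      (EtStalk.closedPt R) (by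
        rw [Category.assoc, ← Scheme.Hom.SpecMap_residueFieldMap_fromSpecResidueField,
          ← Spec.map_comp_assoc]
        erw [hr, Spec.map_id, Category.id_comp])
  let φ : EtStalk.fib (EtStalk.closedPt R) A := Over.homMk a (pullback.lift_snd _ _ _)
  obtain ⟨σ, -⟩ := EtStalk.exists_section R φ
  let ψ : Spec (CommRingCat.of R) ⟶ V := σ.left ≫ pullback.fst g (X.fromSpecStalk (g v))
  have hψ : ψ ≫ g = X.fromSpecStalk (g v) := by
    show (σ.left ≫ _) ≫ g = _
    refine ((Category.assoc _ _ _).trans (congrArg (σ.left ≫ ·) pullback.condition)).trans ?_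
    exact (Category.assoc _ _ _).symm.trans ((congrArg (· ≫ X.fromSpecStalk (g v))
      (MorphismProperty.Over.w σ)).trans (Category.id_comp _))
  obtain ⟨W, hxW, s, -, hs⟩ := LfpSpread12.exists_spread' (𝟙 X) g ψ (by rw [hψ, Category.comp_id])
  exact ⟨W, s, hxW, by rw [hs, Category.comp_id]⟩

include hS in
/-- Restriction to the opens is exact. -/
theorem shortExact_resZar {T : ShortComplex (EtCoh.Ab X)} (hT : T.ShortExact) :
    (T.map (EtZar.resZar X)).ShortExact := by
  haveI := hT.mono_f
  haveI := ((EtZar.zarToEt X).sheafAdjunctionContinuous AddCommGrpCat.{u + 1}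
    (Opens.grothendieckTopology X) X.smallEtaleTopology).isRightAdjoint
  have hm : Mono ((EtZar.resZar X).map T.f) := inferInstance
  refine ShortComplex.ShortExact.mk' (hT.exact.map_of_mono_of_preservesKernel _ inferInstance inferInstance) hm ?_
  haveI : Sheaf.IsLocallySurjective ((EtZar.resZar X).map T.g) := by
    refine ⟨fun {U} s x hx => ?_⟩
    let U' : X.Opens := U
    haveI := hT.epi_g
    haveI : Sheaf.IsLocallySurjective T.g := (Sheaf.isLocallySurjective_iff_epi' AddCommGrpCat.{u + 1} T.g).2 inferInstance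
    have hR := Presheaf.imageSieve_mem X.smallEtaleTopology T.g.hom
      (U := op ((EtZar.zarToEt X).obj U)) s
    rw [EtSite.mem_et_iff] at hR
    obtain ⟨V₀, g, v, ⟨t, ht⟩, hv⟩ := hR (⟨x, hx⟩ : U'.toScheme)
    haveI : AlgebraicGeometry.Etale V₀.hom := V₀.prop
    obtain ⟨W, σ, hvW, hσ⟩ := exists_section hS V₀.hom v
    have hx' : V₀.hom v = x := by
      rw [← MorphismProperty.Over.w g, Scheme.Hom.comp_apply, hv]
      rfl
    refine ⟨W ⊓ U, homOfLE inf_le_right, ?_, ⟨hx' ▸ hvW, hx⟩⟩
    let l : (EtZar.zarToEt X).obj (W ⊓ U) ⟶ V₀ :=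
      MorphismProperty.Over.homMk (X.homOfLE (inf_le_left : W ⊓ U ≤ W) ≫ σ) (by
        show (X.homOfLE _ ≫ σ) ≫ V₀.hom = (W ⊓ U' : X.Opens).ι
        rw [Category.assoc, hσ]
        exact Scheme.homOfLE_ι _ _)
    refine ⟨T.X₂.obj.map l.op t, ?_⟩
    have hl : l ≫ g = (EtZar.zarToEt X).map (homOfLE (inf_le_right : W ⊓ U ≤ U)) := by
      haveI : Mono ((EtZar.zarToEt X).obj U).hom := inferInstanceAs (Mono U'.ι)
      refine MorphismProperty.Over.Hom.ext ((cancel_mono ((EtZar.zarToEt X).obj U).hom).1 ?_)
      exact (MorphismProperty.Over.w (l ≫ g)).trans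
        (MorphismProperty.Over.w ((EtZar.zarToEt X).map (homOfLE (inf_le_right : W ⊓ U ≤ U)))).symm
    show T.g.hom.app (op ((EtZar.zarToEt X).obj (W ⊓ U))) (T.X₂.obj.map l.op t) =
      T.X₃.obj.map ((EtZar.zarToEt X).map (homOfLE inf_le_right)).op s
    rw [← ConcreteCategory.comp_apply, T.g.hom.naturality, ConcreteCategory.comp_apply, ht,
      ← ConcreteCategory.comp_apply, ← T.X₃.obj.map_comp, ← op_comp, hl]
  exact Sheaf.epi_of_isLocallySurjective ((EtZar.resZar X).map T.g)

include hS in
/-- Étale cohomology is Zariski cohomology. -/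
theorem nonempty_H_addEquiv (F : EtCoh.Ab X) (n : ℕ) :
    Nonempty (EtCoh.H X F n ≃+ EtZar.H ((EtZar.resZar X).obj F) n) := by
  obtain ⟨η, hη⟩ := GaCoh3.exists_homEquiv_resZar X
  haveI := GaCoh3.preservesFiniteLimits_zarPull X
  haveI : (EtZar.resZar X).Additive := { map_add := rfl }
  obtain ⟨e, -⟩ := GaCoh3.hasCompare (EtZar.resZar X) η (fun _ => True) hη
    (fun I hI => haveI := hI; Injective.injective_of_adjoint
      ((EtZar.zarToEt X).sheafAdjunctionContinuous AddCommGrpCat.{u + 1}
        (Opens.grothendieckTopology X) X.smallEtaleTopology) I)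
    (fun T hT _ _ => ⟨shortExact_resZar hS hT, trivial⟩) n F trivial
  exact ⟨e⟩

end Groth.Agent.EtZarStrict3
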